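import Mathlib

/-!
# Doubly transitive groups of degree congruent to 2 modulo 4: the swap lemma

A transitive normal subgroup `M` of a 2-transitive group of degree `≡ 2 (mod 4)` is 2-transitive:
otherwise a Sylow 2-subgroup `S₀` of a point stabiliser of `M` fixes three points, any two of which
are swapped inside `N_M(S₀)`, and such swaps are odd for a homomorphism `N_M(S₀) → {±1}` that is
trivial on every point stabiliser.
-/

set_option autoImplicit false

namespace Cfsg.Agent.Fg24.TwoModFour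

open MulAction Equiv

/-- A fixed-point-free involutory permutation of a set of size `≡ 2 (mod 4)` is odd. -/
theorem sign_free_involution {α : Type*} [Fintype α] [DecidableEq α] (σ : Perm α) (h2 : σ ^ 2 = 1)
    (hfree : ∀ x, σ x ≠ x) (hn : Fintype.card α % 4 = 2) : Perm.sign σ = -1 := by
  have h0 : IsEmpty (Function.fixedPoints σ) := ⟨fun x => hfree _ x.2⟩
  rw [Perm.sign_of_pow_two_eq_one h2, Fintype.card_eq_zero_iff.2 h0, Nat.sub_zero]
  have hodd : Odd (Fintype.card α / 2) := ⟨Fintype.card α / 4, by omega⟩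
  exact hodd.neg_one_pow

/-- A normal subgroup acting regularly on `2 (mod 4)` many points, more than two, cannot exist if
every normal subgroup acting nontrivially is transitive. -/
theorem no_regular {X Ω : Type*} [Group X] [Finite X] [Fintype Ω] [MulAction X Ω]
    (N : Subgroup X) [N.Normal] (hn : Fintype.card Ω % 4 = 2) (h2 : 2 < Fintype.card Ω)
    (htr : ∀ K : Subgroup X, K.Normal → (∃ k ∈ K, ∃ w : Ω, k • w ≠ w) → IsPretransitive K Ω)
    (hN : IsPretransitive N Ω) (hfree : ∀ g ∈ N, ∀ w : Ω, g • w = w → g = 1) : False := by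
  classical
  haveI := Fintype.ofFinite X
  have hne : Nonempty Ω := Fintype.card_pos_iff.1 (by omega)
  obtain ⟨w₀⟩ := hne
  have hcard : Nat.card N = Fintype.card Ω := by
    rw [← Nat.card_eq_fintype_card]
    refine Nat.card_eq_of_bijective (fun g : N => (g : X) • w₀) ⟨?_, fun w => ?_⟩
    · intro g g' h
      have h1 : ((g' : X)⁻¹ * g) • w₀ = w₀ := by
        have h' : (g : X) • w₀ = (g' : X) • w₀ := h
        rw [mul_smul, h', inv_smul_smul]
      exact Subtype.ext (eq_of_inv_mul_eq_one (hfree _ (N.mul_mem (N.inv_mem g'.2) g.2) _ h1)).symm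
    · obtain ⟨g, hg⟩ := hN.exists_smul_eq w₀ w
      exact ⟨g, hg⟩
  haveI : Fact (Nat.Prime 2) := ⟨Nat.prime_two⟩
  obtain ⟨z, hz⟩ := exists_prime_orderOf_dvd_card' (G := N) 2 (by rw [hcard]; omega)
  let s : X →* ℤˣ := Perm.sign.comp (MulAction.toPermHom X Ω)
  have hz1 : (z : X) ≠ 1 := fun h => by
    rw [← Subgroup.orderOf_coe, h, orderOf_one] at hz; omega
  have hz2 : (z : X) ^ 2 = 1 := by rw [← hz, ← Subgroup.orderOf_coe, pow_orderOf_eq_one]
  have hsz : s z = -1 := by
    refine sign_free_involution _ ?_ (fun w hw => hz1 (hfree _ z.2 w hw)) hn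
    rw [← map_pow, hz2, map_one]
  let K : Subgroup X := N ⊓ s.ker
  obtain ⟨g, hgN, hg1, hgz⟩ : ∃ g ∈ N, g ≠ 1 ∧ g ≠ (z : X) := by
    by_contra h
    push_neg at h
    have : Nat.card N ≤ 2 := by
      have hsub : (Set.range (Subtype.val : N → X)) ⊆ {1, (z : X)} := by
        rintro _ ⟨g, rfl⟩
        by_cases h1 : (g : X) = 1
        · exact Or.inl h1
        · exact Or.inr (h _ g.2 h1)
      calc Nat.card N = (Set.range (Subtype.val : N → X)).ncard := by
            rw [Subtype.range_coe_subtype, ← Nat.card_coe_set_eq]; rfl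
        _ ≤ ({1, (z : X)} : Set X).ncard := Set.ncard_le_ncard hsub (Set.toFinite _)
        _ ≤ 2 := (Set.ncard_insert_le _ _).trans (by rw [Set.ncard_singleton])
    omega
  obtain ⟨k, hkK, hk1⟩ : ∃ k ∈ K, k ≠ 1 := by
    rcases Int.units_eq_one_or (s g) with hs | hs
    · exact ⟨g, ⟨hgN, hs⟩, hg1⟩
    · refine ⟨g * z, ⟨N.mul_mem hgN z.2, ?_⟩, fun h => hgz ?_⟩
      · show s (g * z) = 1
        rw [map_mul, hs, hsz, neg_one_mul, neg_neg]
      · rw [eq_inv_of_mul_eq_one_left h]
        exact (inv_eq_of_mul_eq_one_right (by rw [← sq, hz2]))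
  have hKn : K.Normal := Subgroup.normal_inf_normal N s.ker
  have hKtr := htr K hKn ⟨k, hkK, w₀, fun h => hk1 (hfree k hkK.1 w₀ h)⟩
  have h3 : Nat.card Ω ≤ Nat.card K :=
    Nat.card_le_card_of_surjective (fun k : K => (k : X) • w₀) fun w => by
      obtain ⟨k, hk⟩ := hKtr.exists_smul_eq w₀ w
      exact ⟨k, hk⟩
  have h4 : Nat.card K < Nat.card N := by
    refine lt_of_le_of_ne (Subgroup.card_le_of_le inf_le_left) fun h => ?_
    have he : K = N := Subgroup.eq_of_le_of_card_ge inf_le_left h.ge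
    have hzK : (z : X) ∈ K := by rw [he]; exact z.2
    have : s z = 1 := hzK.2
    rw [hsz] at this
    exact absurd this (by decide)
  rw [Nat.card_eq_fintype_card, ← hcard] at h3
  omega

/-- A transitive normal subgroup of a 2-transitive group of degree `≡ 2 (mod 4)` is 2-transitive. -/
theorem two_transitive_of_normal {G Ω : Type*} [Group G] [Finite G] [Fintype Ω] [MulAction G Ω]
    [FaithfulSMul G Ω] (h2 : IsMultiplyPretransitive G Ω 2) (hn : Fintype.card Ω % 4 = 2)
    (M : Subgroup G) [M.Normal] (hM : IsPretransitive M Ω) : IsMultiplyPretransitive M Ω 2 := by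
  classical
  haveI : Fact (Nat.Prime 2) := ⟨Nat.prime_two⟩
  have h2' : ∀ {a b c d : Ω}, a ≠ b → c ≠ d → ∃ g : G, g • a = c ∧ g • b = d :=
    is_two_pretransitive_iff.1 h2
  have hnc : Nat.card Ω = Fintype.card Ω := Nat.card_eq_fintype_card
  -- point stabilisers in `M`
  have hst : ∀ u : Ω, Fintype.card Ω * Nat.card (stabilizer M u) = Nat.card M := by
    intro u
    rw [← (stabilizer M u).index_mul_card, index_stabilizer_of_transitive M u, hnc]
  have hstf : ∀ u : Ω, (Nat.card M).factorization 2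
      = 1 + (Nat.card (stabilizer M u)).factorization 2 := by
    intro u
    rw [← hst u, Nat.factorization_mul (by omega) Nat.card_pos.ne', Finsupp.add_apply]
    congr 1
    have hn0 : Fintype.card Ω = 2 ^ 1 * (Fintype.card Ω / 2) := by omega
    rw [hn0, Nat.factorization_mul (by norm_num) (by omega), Finsupp.add_apply,
      Nat.Prime.factorization_pow Nat.prime_two, Finsupp.single_eq_same,
      Nat.factorization_eq_zero_of_not_dvd (by omega : ¬ 2 ∣ Fintype.card Ω / 2)]
  -- any two points are swapped by an element of `M`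
  have hswap : ∀ a x : Ω, a ≠ x → ∃ m : M, m • a = x ∧ m • x = a := by
    intro a x hax
    obtain ⟨t, ht⟩ := exists_prime_orderOf_dvd_card' (G := M) 2 (by
      rw [← hst a]; exact Dvd.dvd.mul_right (by omega) _)
    have ht2 : (t : G) ^ 2 = 1 := by rw [← ht, ← Subgroup.orderOf_coe, pow_orderOf_eq_one]
    obtain ⟨c, hc⟩ : ∃ c : Ω, (t : G) • c ≠ c := by
      by_contra h
      push_neg at h
      have : (t : G) = 1 := eq_of_smul_eq_smul (α := Ω) fun c => by rw [h, one_smul]
      rw [← Subgroup.orderOf_coe, this, orderOf_one] at ht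
      omega
    obtain ⟨g, hgc, hgd⟩ := h2' (Ne.symm hc) hax
    refine ⟨⟨g * t * g⁻¹, (inferInstance : M.Normal).conj_mem _ t.2 g⟩, ?_, ?_⟩
    · show (g * t * g⁻¹) • a = x
      rw [mul_smul, mul_smul, ← hgc, inv_smul_smul, hgd]
    · show (g * t * g⁻¹) • x = a
      rw [mul_smul, mul_smul, ← hgd, inv_smul_smul, ← mul_smul (t : G), ← sq, ht2, one_smul, hgc]
  by_contra hnot
  rw [is_two_pretransitive_iff] at hnot
  push_neg at hnot
  obtain ⟨a, b, c, d, hab, hcd, hno⟩ := hnot
  -- reduce to two orbits of `M_a`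
  obtain ⟨m₁, hm₁⟩ := hM.exists_smul_eq c a
  obtain ⟨m₂, hm₂⟩ := hM.exists_smul_eq a c
  set x : Ω := b with hx
  set y : Ω := m₁ • d with hy
  have hxy : ∀ m : M, m • a = a → m • x ≠ y := by
    intro m hma hmx
    refine hno (m₁⁻¹ * m) (by rw [mul_smul, hma, inv_smul_eq_iff, hm₁]) ?_
    rw [mul_smul, hmx, hy, inv_smul_smul]
  have hxa : x ≠ a := Ne.symm hab
  have hya : y ≠ a := fun h => hcd (smul_left_cancel m₁ (hm₁.trans h.symm))
  -- the Sylow subgroup of the stabiliser
  obtain ⟨P⟩ : Nonempty (Sylow 2 (stabilizer M a)) := inferInstance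
  set S : Subgroup M := (P : Subgroup (stabilizer M a)).map (stabilizer M a).subtype with hSdef
  have hSa : ∀ s ∈ S, s • a = a := fun s hs => Subgroup.map_subtype_le _ hs
  have hSp : IsPGroup 2 S := P.isPGroup'.map _
  have hScard : Nat.card S = 2 ^ (Nat.card (stabilizer M a)).factorization 2 := by
    rw [hSdef, Subgroup.card_map_of_injective (stabilizer M a).subtype_injective]
    exact P.card_eq_multiplicity
  have hsame : ∀ u : Ω, (Nat.card (stabilizer M u)).factorization 2
      = (Nat.card (stabilizer M a)).factorization 2 := fun u => by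
    have := hstf u; have := hstf a; omega
  -- a 2-subgroup fixing `u` and containing `S` is `S`
  have hmax : ∀ (u : Ω) (T : Subgroup M), IsPGroup 2 T → (∀ s ∈ T, s • u = u) → S ≤ T → T = S := by
    intro u T hT hTu hST
    refine (Subgroup.eq_of_le_of_card_ge hST ?_).symm
    obtain ⟨k, hk⟩ := IsPGroup.iff_card.1 hT
    have hTle : T ≤ stabilizer M u := hTu
    have hd : Nat.card T ∣ Nat.card (stabilizer M u) := Subgroup.card_dvd_of_le hTle
    rw [hk] at hd ⊢
    rw [hScard, ← hsame u]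
    exact Nat.pow_le_pow_right (by norm_num)
      ((Nat.Prime.pow_dvd_iff_le_factorization Nat.prime_two Nat.card_pos.ne').1 hd)
  -- swaps inside the normaliser
  have hnswap : ∀ u v : Ω, u ≠ v → (∀ s ∈ S, s • u = u) → (∀ s ∈ S, s • v = v) →
      ∃ w : M, w ∈ Subgroup.normalizer (S : Set M) ∧ w • u = v ∧ w • v = u := by
    intro u v huv hu hv
    obtain ⟨m, hmu, hmv⟩ := hswap u v huv
    set D : Subgroup M := stabilizer M u ⊓ stabilizer M v
    have hSD : S ≤ D := fun s hs => ⟨hu s hs, hv s hs⟩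
    set S' : Subgroup M := S.map (MulAut.conj m).toMonoidHom
    have hS'D : S' ≤ D := by
      rintro _ ⟨s, hs, rfl⟩
      refine ⟨?_, ?_⟩
      · show (m * s * m⁻¹) • u = u
        rw [mul_smul, mul_smul, ← hmv, inv_smul_smul, hv s hs]
      · show (m * s * m⁻¹) • v = v
        rw [mul_smul, mul_smul, ← hmu, inv_smul_smul, hu s hs]
    obtain ⟨Q, hQ⟩ := (hSp.comap_subtype (K := D)).exists_le_sylow
    have hQS : (Q : Subgroup D).map D.subtype = S := by
      refine hmax u _ (Q.isPGroup'.map _) (fun s hs => (Subgroup.map_subtype_le _ hs).1) ?_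
      intro s hs
      exact ⟨⟨s, hSD hs⟩, hQ (by exact hs), rfl⟩
    obtain ⟨R, hR⟩ := ((hSp.map (MulAut.conj m).toMonoidHom).comap_subtype (K := D)).exists_le_sylow
    obtain ⟨e, he⟩ := exists_smul_eq D R Q
    refine ⟨(e : M) * m, ?_, ?_, ?_⟩
    · rw [Subgroup.mem_normalizer_iff]
      have key : ∀ s ∈ S, ((e : M) * m) * s * ((e : M) * m)⁻¹ ∈ S := by
        intro s hs
        have h1 : (⟨m * s * m⁻¹, hS'D ⟨s, hs, rfl⟩⟩ : D) ∈ (R : Subgroup D) :=
          hR ⟨s, hs, rfl⟩
        have h2 : e * ⟨m * s * m⁻¹, hS'D ⟨s, hs, rfl⟩⟩ * e⁻¹ ∈ (Q : Subgroup D) := by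
          rw [← he, Sylow.coe_subgroup_smul]
          exact ⟨_, h1, rfl⟩
        rw [← hQS]
        refine ⟨_, h2, ?_⟩
        show (e : M) * (m * s * m⁻¹) * (e : M)⁻¹ = _
        group
      intro s
      refine ⟨key s, fun hs => ?_⟩
      have hmap : S.map (MulAut.conj ((e : M) * m)).toMonoidHom = S := by
        refine Subgroup.eq_of_le_of_card_ge ?_ ?_
        · rintro _ ⟨t, ht, rfl⟩; exact key t ht
        · rw [Subgroup.card_map_of_injective (f := (MulAut.conj ((e : M) * m)).toMonoidHom)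
            (MulAut.conj ((e : M) * m)).injective]
      rw [← hmap] at hs
      obtain ⟨t, ht, hts⟩ := hs
      rwa [(MulAut.conj ((e : M) * m)).injective hts] at ht
    · rw [mul_smul, hmu]; exact e.2.2
    · rw [mul_smul, hmv]; exact e.2.1
  -- the homomorphism to `{±1}`
  set L : Subgroup M := Subgroup.normalizer (S : Set M) with hLdef
  set S₀ : Subgroup L := S.subgroupOf L with hS₀
  haveI : S₀.Normal := Subgroup.normal_in_normalizer
  haveI : Fintype (L ⧸ S₀) := Fintype.ofFinite _
  let ε : L →* ℤˣ := Perm.sign.comp (MulAction.toPermHom L (L ⧸ S₀))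
  have hεS : ∀ s ∈ S₀, ε s = 1 := by
    intro s hs
    have h1 : MulAction.toPermHom L (L ⧸ S₀) s = 1 := by
      refine Equiv.ext fun q => ?_
      obtain ⟨l, rfl⟩ := QuotientGroup.mk_surjective q
      show QuotientGroup.mk (s * l) = (QuotientGroup.mk l : L ⧸ S₀)
      rw [QuotientGroup.eq]
      have := (inferInstance : S₀.Normal).conj_mem _ (S₀.inv_mem hs) l⁻¹
      simpa [mul_assoc] using this
    show Perm.sign (MulAction.toPermHom L (L ⧸ S₀) s) = 1
    rw [h1, map_one]
  have hodd : ∀ (e : L) (u : Ω), (e : M) • u = u → (∀ s ∈ S, s • u = u) →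
      ∃ j, Odd j ∧ e ^ j ∈ S₀ := by
    intro e u heu hu
    refine ⟨ordCompl[2] (orderOf e), Nat.odd_iff.2 (Nat.two_dvd_ne_zero.1
      (Nat.not_dvd_ordCompl Nat.prime_two (orderOf_pos e).ne')), ?_⟩
    set f : L := e ^ ordCompl[2] (orderOf e)
    have hf2 : f ^ 2 ^ (orderOf e).factorization 2 = 1 := by
      rw [← pow_mul, mul_comm, Nat.ordProj_mul_ordCompl_eq_self, pow_orderOf_eq_one]
    have hfu : (f : M) • u = u := by
      have : ∀ k : ℕ, ((e : M) ^ k) • u = u := fun k => by
        induction k with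
        | zero => rw [pow_zero, one_smul]
        | succ k ih => rw [pow_succ, mul_smul, heu, ih]
      simpa [f] using this _
    have hT : IsPGroup 2 (S ⊔ Subgroup.zpowers (f : M) : Subgroup M) := by
      refine hSp.to_sup_of_normal_left' (IsPGroup.iff_card.2 ?_) ?_
      · rw [Nat.card_zpowers]
        have hdvd : orderOf (f : M) ∣ 2 ^ (orderOf e).factorization 2 := by
          rw [orderOf_dvd_iff_pow_eq_one, ← SubgroupClass.coe_pow, hf2, Subgroup.coe_one]
        obtain ⟨k, -, hk⟩ := (Nat.dvd_prime_pow Nat.prime_two).1 hdvd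
        exact ⟨k, hk⟩
      · exact Subgroup.zpowers_le.2 f.2
    have hTu : ∀ s ∈ (S ⊔ Subgroup.zpowers (f : M) : Subgroup M), s • u = u :=
      fun s hs => (sup_le (show S ≤ stabilizer M u from hu) (Subgroup.zpowers_le.2 hfu)) hs
    have := hmax u _ hT hTu le_sup_left
    show (f : M) ∈ S
    rw [← this]
    exact Subgroup.mem_sup_right (Subgroup.mem_zpowers _)
  have hεfix : ∀ (e : L) (u : Ω), (e : M) • u = u → (∀ s ∈ S, s • u = u) → ε e = 1 := by
    intro e u heu hu
    obtain ⟨j, hj, hjS⟩ := hodd e u heu hu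
    have h1 := hεS _ hjS
    rw [map_pow] at h1
    rcases Int.units_eq_one_or (ε e) with h | h
    · exact h
    · rw [h, hj.neg_one_pow] at h1; exact absurd h1 (by decide)
  have hεswap : ∀ (w : L) (u v : Ω), u ≠ v → (w : M) • u = v → (w : M) • v = u →
      (∀ s ∈ S, s • u = u) → ε w = -1 := by
    intro w u v huv hwu hwv hu
    obtain ⟨j, hj, hjS⟩ := hodd (w ^ 2) u (by
      rw [sq, Subgroup.coe_mul, mul_smul, hwu, hwv]) hu
    obtain ⟨k, hk⟩ := hj
    set z : L := w ^ j
    have hz2 : z ^ 2 ∈ S₀ := by rw [← pow_mul, mul_comm, pow_mul]; exact hjS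
    have hzu : (z : M) • u = v := by
      have hw2 : ∀ i : ℕ, ((w : M) ^ (2 * i)) • u = u := fun i => by
        induction i with
        | zero => rw [Nat.mul_zero, pow_zero, one_smul]
        | succ i ih => rw [Nat.mul_succ, pow_add, mul_smul, sq, mul_smul, hwu, hwv, ih]
      show ((w ^ j : L) : M) • u = v
      rw [SubgroupClass.coe_pow, hk, add_comm, pow_add, pow_one, mul_smul, hw2, hwu]
    have hzS : z ∉ S₀ := fun h => huv ((hu _ h).symm.trans hzu)
    have hzsign : ε z = -1 := by
      refine sign_free_involution _ ?_ ?_ ?_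
      · rw [← map_pow]
        refine Equiv.ext fun q => ?_
        obtain ⟨l, rfl⟩ := QuotientGroup.mk_surjective q
        show QuotientGroup.mk (z ^ 2 * l) = (QuotientGroup.mk l : L ⧸ S₀)
        rw [QuotientGroup.eq]
        have := (inferInstance : S₀.Normal).conj_mem _ (S₀.inv_mem hz2) l⁻¹
        simpa [mul_assoc] using this
      · intro q hq
        obtain ⟨l, rfl⟩ := QuotientGroup.mk_surjective q
        have hq' : (QuotientGroup.mk (z * l) : L ⧸ S₀) = QuotientGroup.mk l := hq
        rw [QuotientGroup.eq] at hq'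
        have := (inferInstance : S₀.Normal).conj_mem _ (S₀.inv_mem hq') l
        apply hzS
        simpa [mul_assoc] using this
      · -- the index is twice an odd number
        have hQ : Fintype.card (L ⧸ S₀) * Nat.card S ∣ Nat.card M := by
          have hcS : Nat.card S₀ = Nat.card S :=
            Nat.card_congr (Subgroup.subgroupOfEquivOfLe Subgroup.le_normalizer).toEquiv
          rw [← Nat.card_eq_fintype_card, ← hcS, ← Subgroup.card_eq_card_quotient_mul_card_subgroup]
          exact L.card_subgroup_dvd_card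
        have heven : 2 ∣ Fintype.card (L ⧸ S₀) := by
          have hne : (QuotientGroup.mk z : L ⧸ S₀) ≠ 1 := fun h =>
            hzS ((QuotientGroup.eq_one_iff _).1 h)
          have hord : orderOf (QuotientGroup.mk z : L ⧸ S₀) = 2 :=
            orderOf_eq_prime (by rw [← QuotientGroup.mk_pow, QuotientGroup.eq_one_iff]; exact hz2) hne
          rw [← hord]
          exact orderOf_dvd_card
        by_contra h4
        have h4' : 4 ∣ Fintype.card (L ⧸ S₀) := by omega
        have hdvd : 2 ^ (2 + (Nat.card (stabilizer M a)).factorization 2) ∣ Nat.card M := by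
          refine dvd_trans ?_ hQ
          rw [pow_add, hScard]
          exact Nat.mul_dvd_mul_right h4' _
        have := (Nat.Prime.pow_dvd_iff_le_factorization Nat.prime_two Nat.card_pos.ne').1 hdvd
        have := hstf a
        omega
    have hpow : ε z = ε w ^ j := map_pow ε w j
    rcases Int.units_eq_one_or (ε w) with h | h
    · rw [hpow, h, one_pow] at hzsign
      exact absurd hzsign (by decide)
    · exact h
  -- `S` fixes a point other than `a`
  obtain ⟨x₁, hx₁, hx₁a⟩ : ∃ x₁ : Ω, (∀ s ∈ S, s • x₁ = x₁) ∧ a ≠ x₁ := by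
    have hd : 2 ∣ Nat.card Ω := by rw [hnc]; omega
    obtain ⟨x₁, hx₁, hne⟩ := hSp.exists_fixed_point_of_prime_dvd_card_of_fixed_point Ω hd
      (a := a) (fun s => hSa _ s.2)
    exact ⟨x₁, fun s hs => hx₁ ⟨s, hs⟩, hne⟩
  -- conjugates of `S` in the stabiliser
  have hmove : ∀ z : Ω, z ≠ a → ∃ m : M, m • a = a ∧ ∀ s ∈ S, s • (m • z) = m • z := by
    intro z hza
    obtain ⟨g, hga, hgx⟩ := h2' hx₁a (Ne.symm hza)
    let φ : M →* M := (MulAut.conjNormal g).toMonoidHom
    have hφ : ∀ s : M, ((φ s : M) : G) = g * s * g⁻¹ := fun s => MulAut.conjNormal_apply g s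
    have hφfix : ∀ (s : M) (u : Ω), s • u = u → (φ s) • (g • u) = g • u := by
      intro s u hsu
      show ((φ s : M) : G) • (g • u) = g • u
      rw [hφ, mul_smul, mul_smul, inv_smul_smul]
      exact congrArg (g • ·) hsu
    set T : Subgroup M := S.map φ
    have hTa : T ≤ stabilizer M a := by
      rintro _ ⟨s, hs, rfl⟩
      have := hφfix s a (hSa s hs)
      rwa [hga] at this
    obtain ⟨R, hR⟩ := ((hSp.map φ).comap_subtype (K := stabilizer M a)).exists_le_sylow
    obtain ⟨e, he⟩ := exists_smul_eq (stabilizer M a) P R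
    refine ⟨(e : M)⁻¹, (stabilizer M a).inv_mem e.2, fun s hs => ?_⟩
    have hTR : T = (R : Subgroup (stabilizer M a)).map (stabilizer M a).subtype := by
      refine Subgroup.eq_of_le_of_card_ge (fun t ht => ⟨⟨t, hTa ht⟩, hR ht, rfl⟩) ?_
      rw [Subgroup.card_map_of_injective (stabilizer M a).subtype_injective,
        Subgroup.card_map_of_injective (f := φ) (MulAut.conjNormal g).injective, hScard]
      exact R.card_eq_multiplicity.le
    have hsT : (e : M) * s * (e : M)⁻¹ ∈ T := by
      rw [hTR]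
      obtain ⟨s', hs', rfl⟩ := hs
      refine ⟨e * s' * e⁻¹, ?_, rfl⟩
      rw [← he, Sylow.coe_subgroup_smul]
      exact ⟨_, hs', rfl⟩
    obtain ⟨r, hr, hre⟩ := hsT
    have hfix : ((e : M) * s * (e : M)⁻¹) • z = z := by
      rw [← hre, ← hgx]
      exact hφfix r x₁ (hx₁ r hr)
    rw [mul_smul, mul_smul, smul_eq_iff_eq_inv_smul] at hfix
    exact hfix
  obtain ⟨mx, hmxa, hmx⟩ := hmove x hxa
  obtain ⟨my, hmya, hmy⟩ := hmove y hya
  set x' : Ω := mx • x
  set y' : Ω := my • y
  have hx'a : a ≠ x' := fun h => hxa (smul_left_cancel mx (hmxa.trans h).symm)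
  have hy'a : a ≠ y' := fun h => hya (smul_left_cancel my (hmya.trans h).symm)
  have hx'y' : x' ≠ y' := fun h => hxy (my⁻¹ * mx) (by
    rw [mul_smul, hmxa, inv_smul_eq_iff, hmya]) (by rw [mul_smul, inv_smul_eq_iff]; exact h)
  obtain ⟨w₁, hw₁L, hw₁a, hw₁x⟩ := hnswap a x' hx'a hSa hmx
  obtain ⟨w₂, hw₂L, hw₂a, hw₂y⟩ := hnswap a y' hy'a hSa hmy
  obtain ⟨w₃, hw₃L, hw₃x, hw₃y⟩ := hnswap x' y' hx'y' hmx hmy
  have e₁ := hεswap ⟨w₁, hw₁L⟩ a x' hx'a hw₁a hw₁x hSa
  have e₂ := hεswap ⟨w₂, hw₂L⟩ a y' hy'a hw₂a hw₂y hSa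
  have e₃ := hεswap ⟨w₃, hw₃L⟩ x' y' hx'y' hw₃x hw₃y hmx
  have e₄ := hεfix ((⟨w₃, hw₃L⟩ : L)⁻¹ * (⟨w₂, hw₂L⟩ * ⟨w₁, hw₁L⟩)) x' (by
    show (w₃⁻¹ * (w₂ * w₁)) • x' = x'
    rw [mul_smul, mul_smul, hw₁x, hw₂a, inv_smul_eq_iff, hw₃x]) hmx
  rw [map_mul, map_inv, map_mul, e₁, e₂, e₃] at e₄
  exact absurd e₄ (by decide)

end Cfsg.Agent.Fg24.TwoModFour
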